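import Cfsg.Agent.Lib.ModRep.Princ2
import Cfsg.Agent.Lib.ExcP.BlockHA
import Cfsg.Agent.Lib.Char.IndRep
import Cfsg.Agent.Lib.CharX.Conj
import Cfsg.Agent.Lib.Char.Clifford
import Cfsg.Agent.Lib.BlockT.Inflate
import Cfsg.Agent.Lib.BlockH.Basic
import Cfsg.Agent.Lib.CharDeep.LinearChar

/-!
# Induction from the normalizer of a subgroup of prime order

`P` is a subgroup of prime order `p` with `p ^ 2 ∤ |G|`.  A class function `ξ` on `N = N_G(P)` with `P` in
its kernel has the property that its induced class function has the same inner product with every `Θ κ`.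
-/

set_option autoImplicit false
set_option linter.style.haveILetI false
set_option linter.unusedSectionVars false

namespace Cfsg.Agent.Lib.BrauerOrder.Basic

open Cfsg Cfsg.Agent.Lib.Char.Induced Cfsg.Agent.Lib.Char.Ortho Cfsg.Agent.Lib.Char.Linear
open Cfsg.Agent.Lib.Char.Basic Cfsg.Agent.Lib.Char.GenLattice Cfsg.Agent.Lib.Char.Complete
open Cfsg.Agent.Lib.Char.Degree
open Cfsg.Agent.Lib.ExcP.Gram Cfsg.Agent.Lib.ExcP.Inst
open scoped ComplexConjugate

universe u

variable {G : Type u} [Group G] [Fintype G] {p : ℕ} [hp : Fact p.Prime] {P : Subgroup G}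

/-- Elements of order `p` in the normalizer lie in `P`. -/
theorem mem_of_orderOf_eq_of_normalizer (hP : Nat.card P = p) (hp2 : ¬ p ^ 2 ∣ Nat.card G) {x : G}
    (hx : x ∈ Nn P) (hxo : orderOf x = p) : x ∈ P := by
  have hK : IsPGroup p (Subgroup.zpowers x) :=
    IsPGroup.of_card (n := 1) (by rw [Nat.card_zpowers, hxo, pow_one])
  have hPp : IsPGroup p P := IsPGroup.of_card (n := 1) (by rw [hP, pow_one])
  have hle : Subgroup.zpowers x ≤ Nn P := by
    rw [Subgroup.zpowers_le]
    exact hx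
  have hsup := IsPGroup.to_sup_of_normal_right' hK hPp hle
  obtain ⟨n, hn⟩ := hsup.exists_card_eq
  have hn1 : n ≤ 1 := by
    by_contra hcon
    apply hp2
    have h1 : p ^ 2 ∣ p ^ n := pow_dvd_pow p (by omega)
    rw [← hn] at h1
    exact h1.trans (Subgroup.card_subgroup_dvd_card _)
  have hle2 : Subgroup.zpowers x ⊔ P = P := by
    symm
    apply Subgroup.eq_of_le_of_card_ge le_sup_right
    rw [hn, hP]
    calc p ^ n ≤ p ^ 1 := Nat.pow_le_pow_right hp.out.pos hn1
      _ = p := pow_one p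
  have h3 : x ∈ Subgroup.zpowers x ⊔ P := (le_sup_left : Subgroup.zpowers x ≤ _) (Subgroup.mem_zpowers x)
  rwa [hle2] at h3

/-- The induced function at a `p`-singular element of the normalizer. -/
theorem indFun_apply_of_dvd (hP : Nat.card P = p) (hp2 : ¬ p ^ 2 ∣ Nat.card G) (ξ : Nn P → ℂ)
    (hξ : IsClassFunction (Nn P) ξ) {c : G} (hc : c ∈ Nn P) (hd : p ∣ orderOf c) :
    indFun (Nn P) ξ c = ξ ⟨c, hc⟩ := by
  classical
  have h4 := orderOf_pow_div hd
  have hmem2 : c ^ (orderOf c / p) ∈ P :=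
    mem_of_orderOf_eq_of_normalizer hP hp2 ((Nn P).pow_mem hc _) h4
  have hne : c ^ (orderOf c / p) ≠ 1 := by
    intro h5
    rw [h5, orderOf_one] at h4
    exact hp.out.one_lt.ne h4
  have hterm : ∀ y : G, extendByZero (Nn P) ξ (y⁻¹ * c * y) = if y ∈ Nn P then ξ ⟨c, hc⟩ else 0 := by
    intro y
    by_cases hy : y ∈ Nn P
    · rw [if_pos hy]
      have hw : y⁻¹ * c * y ∈ Nn P := (Nn P).mul_mem ((Nn P).mul_mem ((Nn P).inv_mem hy) hc) hy
      rw [extendByZero_of_mem _ _ hw]
      have h1 := hξ ⟨c, hc⟩ ⟨y, hy⟩⁻¹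
      rw [← h1]
      congr 1
      apply Subtype.ext
      simp
    · rw [if_neg hy]
      apply extendByZero_of_not_mem
      intro hw
      apply hy
      have hord : orderOf (y⁻¹ * c * y) = orderOf c := by
        have h1 := (MulAut.conj y⁻¹).orderOf_eq c
        have h2 : (MulAut.conj y⁻¹) c = y⁻¹ * c * y := by
          simp
        rwa [h2] at h1
      have h3 := orderOf_pow_div (p := p) (x := y⁻¹ * c * y) (by rwa [hord])
      rw [hord] at h3
      have hmem1 : (y⁻¹ * c * y) ^ (orderOf c / p) ∈ P :=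
        mem_of_orderOf_eq_of_normalizer hP hp2 ((Nn P).pow_mem hw _) h3
      apply mem_normalizer_of_conj_mem hP hmem1 hmem2 hne
      have h6 : (y⁻¹ * c * y) = y⁻¹ * c * y⁻¹⁻¹ := by simp
      rw [h6, conj_pow]
      group
  rw [indFun_apply]
  simp only [hterm]
  rw [Finset.sum_ite, Finset.sum_const_zero, add_zero, Finset.sum_const, nsmul_eq_mul]
  have hcard : ((Finset.univ.filter (fun y : G => y ∈ Nn P)).card : ℂ) = (Nat.card (Nn P) : ℂ) := by
    rw [Nat.card_eq_fintype_card]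
    congr 1
    rw [Fintype.card_subtype]
  rw [hcard]
  have h0 : (Nat.card (Nn P) : ℂ) ≠ 0 := by
    exact_mod_cast Nat.card_pos.ne'
  field_simp

/-- The inner product of `Θ κ` with a function induced from the normalizer, trivial on `P`. -/
theorem classInner_Th_indFun (hP : Nat.card P = p) (hp2 : ¬ p ^ 2 ∣ Nat.card G) [Fintype (Cn P)]
    (ξ : Nn P → ℂ) (hξ : IsClassFunction (Nn P) ξ)
    (hker : ∀ (n : Nn P) (u : G) (hu : u ∈ P),
      ξ (n * ⟨u, Subgroup.centralizer_le_normalizer _ (le_centralizer hP hu)⟩) = ξ n)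
    {κ : Cn P →* ℂˣ} (hκ : IsD P p κ) :
    classInner (Th P κ) (indFun (Nn P) ξ) = - ((Nat.card (Cn P) : ℂ)⁻¹ *
      ∑ c : Cn P, conj (ξ ⟨c, Subgroup.centralizer_le_normalizer _ c.2⟩)) := by
  classical
  have hle : ∀ c : Cn P, (c : G) ∈ Nn P := fun c => Subgroup.centralizer_le_normalizer _ c.2
  rw [Th, classInner_indFun_left _ _ _ (isClassFunction_indFun _ _), classInner_subgroup_eq]
  -- replacing the values
  have hterm : ∀ c : Cn P, fl P κ c * conj (indFun (Nn P) ξ c) =
      ((κ c : ℂˣ) : ℂ) * conj (ξ ⟨c, hle c⟩) - conj (ξ ⟨c, hle c⟩) := by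
    intro c
    by_cases hd : p ∣ orderOf (c : G)
    · rw [indFun_apply_of_dvd hP hp2 ξ hξ (hle c) hd, fl]
      ring
    · have h1 := apply_eq_one_of_not_dvd hκ.1 c hd
      rw [fl, h1]
      simp
  rw [Finset.sum_congr rfl (fun c _ => hterm c), Finset.sum_sub_distrib]
  -- the sum with `κ` vanishes
  have hzero : ∑ c : Cn P, ((κ c : ℂˣ) : ℂ) * conj (ξ ⟨c, hle c⟩) = 0 := by
    obtain ⟨u₀, hu₀, hne⟩ : ∃ u₀ : Cn P, (u₀ : G) ∈ P ∧ κ u₀ ≠ 1 := by
      by_contra hcon
      push Not at hcon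
      exact hκ.2 (eq_one_of_trivial_on hP hp2 hκ.1 hcon)
    have h1 : ∑ c : Cn P, ((κ c : ℂˣ) : ℂ) * conj (ξ ⟨c, hle c⟩) =
        ((κ u₀ : ℂˣ) : ℂ) * ∑ c : Cn P, ((κ c : ℂˣ) : ℂ) * conj (ξ ⟨c, hle c⟩) := by
      rw [Finset.mul_sum]
      symm
      refine Fintype.sum_equiv (Equiv.mulRight u₀) _ _ (fun c => ?_)
      have h2 : ξ ⟨((Equiv.mulRight u₀ c : Cn P) : G), hle _⟩ = ξ ⟨c, hle c⟩ := by
        have h3 := hker ⟨c, hle c⟩ (u₀ : G) hu₀
        rw [← h3]
        rfl
      rw [h2]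
      simp only [Equiv.coe_mulRight, map_mul, Units.val_mul]
      ring
    have h2 : (((κ u₀ : ℂˣ) : ℂ) - 1) * ∑ c : Cn P, ((κ c : ℂˣ) : ℂ) * conj (ξ ⟨c, hle c⟩) = 0 := by
      linear_combination -h1
    have h3 : ((κ u₀ : ℂˣ) : ℂ) - 1 ≠ 0 := by
      intro h
      apply hne
      apply Units.ext
      rw [Units.val_one]
      linear_combination h
    exact (mul_eq_zero.mp h2).resolve_left h3
  rw [hzero]
  ring

/-- A sum of irreducible constituents has degree at most the degree of a character. -/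
theorem sum_deg_le [Fintype (IrrCharacter G)] {Ψ : G → ℂ} (hΨ : IsCharacter G Ψ)
    (S : Finset (IrrCharacter G)) (hS : ∀ j ∈ S, classInner Ψ (j : G → ℂ) ≠ 0) :
    ∑ j ∈ S, charDegree (j : G → ℂ) ≤ charDegree Ψ := by
  classical
  obtain ⟨m, hm⟩ := exists_nat_combination hΨ
  have hmj : ∀ j : IrrCharacter G, classInner Ψ (j : G → ℂ) = (m j : ℂ) := by
    intro j
    rw [hm]
    exact classInner_of_nat_combination m j
  have h1 : (charDegree Ψ : ℂ) = ((∑ j, m j * charDegree (j : G → ℂ) : ℕ) : ℂ) := by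
    rw [charDegree_natCast hΨ, hm, Finset.sum_apply]
    push_cast
    refine Finset.sum_congr rfl fun j _ => ?_
    rw [Pi.smul_apply, charDegree_natCast (isCharacter_of_isIrrCharacter j.2), nsmul_eq_mul]
  have h2 : charDegree Ψ = ∑ j, m j * charDegree (j : G → ℂ) := by exact_mod_cast h1
  rw [h2]
  calc ∑ j ∈ S, charDegree (j : G → ℂ) ≤ ∑ j ∈ S, m j * charDegree (j : G → ℂ) := by
        refine Finset.sum_le_sum fun j hj => ?_
        have h3 : m j ≠ 0 := by
          intro h0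
          apply hS j hj
          rw [hmj, h0]
          simp
        exact Nat.le_mul_of_pos_left _ (Nat.pos_of_ne_zero h3)
    _ ≤ ∑ j, m j * charDegree (j : G → ℂ) :=
        Finset.sum_le_sum_of_subset (Finset.subset_univ _)

/-- A character of degree one of a simple non-abelian group is trivial. -/
theorem eq_one_of_charDegree_eq_one [IsSimpleGroup G] (hna : ¬ IsMulCommutative G) {χ : G → ℂ}
    (hχ : IsCharacter G χ) (h1 : charDegree χ = 1) (g : G) : χ g = 1 := by
  classical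
  have h2 : χ 1 = 1 := by
    rw [← charDegree_natCast hχ, h1]
    simp
  let f := Cfsg.Agent.Lib.CharDeep.LinearChar.toHom hχ h2
  have hf : ∀ x, ((f x : ℂˣ) : ℂ) = χ x := fun x => rfl
  rcases (inferInstance : IsSimpleGroup G).eq_bot_or_eq_top_of_normal f.ker f.normal_ker with h | h
  · exfalso
    apply hna
    have hinj : Function.Injective f := (MonoidHom.ker_eq_bot_iff f).mp h
    refine ⟨⟨fun a b => hinj ?_⟩⟩
    rw [map_mul, map_mul, mul_comm]
  · have h3 : g ∈ f.ker := by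
      rw [h]
      trivial
    rw [← hf, MonoidHom.mem_ker.mp h3]
    simp

end Cfsg.Agent.Lib.BrauerOrder.Basic
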