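import Cfsg.Agent.Lib.BrauerOrder.Main

/-!
# The order bound

A non-abelian simple group with `p ∥ |G|` has order at least `p (p ^ 2 - 1) / 2`.
-/

set_option autoImplicit false
set_option linter.style.haveILetI false
set_option linter.unusedSectionVars false

namespace Cfsg.Agent.Lib.BrauerOrder.Bound

open Cfsg Cfsg.Agent.Lib.Char.Induced Cfsg.Agent.Lib.Char.Ortho Cfsg.Agent.Lib.Char.Linear
open Cfsg.Agent.Lib.Char.Basic Cfsg.Agent.Lib.Char.GenLattice Cfsg.Agent.Lib.Char.Complete
open Cfsg.Agent.Lib.Char.Degree Cfsg.Agent.Lib.Char.IndRep Cfsg.Agent.Lib.Char.Clifford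
open Cfsg.Agent.Lib.ExcP.Gram Cfsg.Agent.Lib.ExcP.Inst Cfsg.Agent.Lib.ExcP.BlockHA
open Cfsg.Agent.Lib.ExcP.Core
open Cfsg.Agent.Lib.Blocks.Local Cfsg.Agent.Lib.Blocks.Central
open Cfsg.Agent.Lib.BrauerOrder.Basic Cfsg.Agent.Lib.BrauerOrder.Main
open scoped ComplexConjugate

universe u

variable {G : Type u} [Group G] [Fintype G] {p : ℕ} [hp : Fact p.Prime] {P : Subgroup G}

/-- Arithmetic for the case of a non-trivial fixed space. -/
theorem arith_pos (t e n s a D₀ : ℤ) (ε : ℤ) (pp : ℤ) (hε : ε = 1 ∨ ε = -1) (ht : 2 ≤ t) (he : 0 < e)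
    (hs : 1 ≤ s) (hsa : s ≤ a) (hD : D₀ = pp * a + ε * e) (hte : t * e = pp - 1)
    (hle : t * D₀ ≤ n * s) (hpp : 2 ≤ pp) : pp ^ 2 ≤ 2 * (n * e) + 1 := by
  have hbound : t * pp - pp + 1 ≤ n := by
    have h1 : s * (t * pp - pp + 1) ≤ s * n := by
      rcases hε with rfl | rfl
      · have h2 : t * D₀ = t * pp * a + (pp - 1) := by
          rw [hD, ← hte]
          ring
        have h3 : t * pp * s ≤ t * pp * a :=
          mul_le_mul_of_nonneg_left hsa (by positivity)
        nlinarith
      · have h2 : t * D₀ = t * pp * a - (pp - 1) := by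
          rw [hD, ← hte]
          ring
        have h3 : t * pp * s ≤ t * pp * a :=
          mul_le_mul_of_nonneg_left hsa (by positivity)
        have h4 : (pp - 1) * 1 ≤ (pp - 1) * s :=
          mul_le_mul_of_nonneg_left hs (by linarith)
        nlinarith
    exact le_of_mul_le_mul_left h1 (by linarith)
  have h2e : 2 * e ≤ pp - 1 := by
    rw [← hte]
    exact mul_le_mul_of_nonneg_right ht he.le
  have h5 : 2 * e * (t * pp - pp + 1) ≤ 2 * e * n :=
    mul_le_mul_of_nonneg_left hbound (by positivity)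
  have h6 : 2 * e * (t * pp - pp + 1) = (pp - 1) * (2 * pp - 2 * e) := by
    have : t * pp * e = (pp - 1) * pp := by
      rw [← hte]
      ring
    linear_combination 2 * this
  have h7 : (pp - 1) * (pp + 1) ≤ (pp - 1) * (2 * pp - 2 * e) :=
    mul_le_mul_of_nonneg_left (by linarith) (by linarith)
  nlinarith

/-- Arithmetic for the case without a fixed space. -/
theorem arith_zero (t e pp Sp Sm : ℤ) (ht : 3 ≤ t) (he : 2 ≤ e) (hte : t * e = pp - 1) (hSp : Sp ≤ e * e)
    (hrel : Sp - Sm = e) (hlow : 1 + (e - 1) * (pp - 1) ≤ Sp + Sm) : False := by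
  have h1 : 3 * e ≤ t * e := mul_le_mul_of_nonneg_right ht (by linarith)
  have h2 : (e - 1) * (3 * e) ≤ (e - 1) * (pp - 1) :=
    mul_le_mul_of_nonneg_left (by linarith) (by linarith)
  nlinarith

/-- The main bound: the index of the normalizer times `e`. -/
theorem main_bound [IsSimpleGroup G] (hna : ¬ IsMulCommutative G) (hP : Nat.card P = p)
    (hp2 : ¬ p ^ 2 ∣ Nat.card G) (hnn : ¬ P.Normal) :
    p ^ 2 ≤ 2 * ((Nn P).index * (Cn P).relIndex (Nn P)) + 1 := by
  classical
  haveI := Cfsg.Agent.Lib.Char.Ortho.finite_irrCharacter (G := G)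
  letI := Fintype.ofFinite (IrrCharacter G)
  letI : Fintype P := Fintype.ofFinite _
  letI : Fintype (Cn P) := Fintype.ofFinite _
  letI : Fintype (Nn P) := Fintype.ofFinite _
  haveI := finite_DD (p := p) (P := P) hP hp2
  letI : Fintype (DD P p) := Fintype.ofFinite _
  obtain ⟨M, hM⟩ := Cfsg.Agent.Lib.BlockH.Basic.exists_isPModular hp.out
  haveI := isPrime_of_pModular hM
  set e := (Cn P).relIndex (Nn P) with he
  have hN : Nat.card (Nn P) = e * Nat.card (Cn P) := by
    have hle : Cn P ≤ Nn P := Subgroup.centralizer_le_normalizer _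
    have h1 := Subgroup.card_mul_index ((Cn P).subgroupOf (Nn P))
    have h2 : Nat.card ((Cn P).subgroupOf (Nn P)) = Nat.card (Cn P) :=
      Nat.card_congr (Subgroup.subgroupOfEquivOfLe hle).toEquiv
    rw [h2] at h1
    rw [← h1, he, mul_comm]
    rfl
  obtain ⟨X, Y, εX, ε, ν, hB, hdisj, hXc, hYc, hεX, hε, hν, hY, hΘ, hXdeg, hνdeg⟩ :=
    Cfsg.Agent.Lib.ModRep.Princ2.structure_principal hM hP hp2 e he.symm
  have hn := index_ge hP hp2 hnn
  set n := (Nn P).index with hndef
  have hp1 := hp.out.two_le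
  have hε0 : ε ≠ 0 := by
    rcases hε with h | h <;> rw [h] <;> norm_num
  have hεC : (ε : ℂ) ≠ 0 := by exact_mod_cast hε0
  have hDpos : 0 < Fintype.card (DD P p) := by
    rw [← Nat.card_eq_fintype_card, card_DD hP hp2]
    omega
  obtain ⟨d₀⟩ := Fintype.card_pos_iff.mp hDpos
  -- the shape of `Θ`
  let Γ : G → ℂ := fun g => - ∑ χ ∈ X, (εX χ : ℂ) * (χ : G → ℂ) g
  have hΘ' : ∀ d : DD P p, Th P d.1 = Γ + (ε : ℂ) • (ν d : G → ℂ) := by
    intro d
    funext g
    have h1 := hΘ d g
    exact h1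
  have hνY : ∀ d, ν d ∈ Y := fun d => (hY _).mpr ⟨d, rfl⟩
  have hνX : ∀ d, ν d ∉ X := fun d h => Finset.disjoint_left.mp hdisj h (hνY d)
  have hΓfun : Γ = - ∑ χ ∈ X, (εX χ : ℂ) • (χ : G → ℂ) := by
    funext g
    simp [Γ, Finset.sum_apply]
  have hΓin : ∀ j : IrrCharacter G, classInner Γ (j : G → ℂ) =
      - ∑ χ ∈ X, (εX χ : ℂ) * (if (χ : IrrCharacter G) = j then 1 else 0) := by
    intro j
    rw [hΓfun, classInner_neg_left, classInner_sum_left]
    congr 1
    refine Finset.sum_congr rfl fun χ _ => ?_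
    rw [classInner_smul_left, classInner_irr χ.2 j.2]
    by_cases h : χ = j
    · rw [if_pos (congrArg Subtype.val h), if_pos h]
    · rw [if_neg (fun h' => h (Subtype.ext h')), if_neg h]
  have hΓX : ∀ χ ∈ X, classInner Γ (χ : G → ℂ) = - (εX χ : ℂ) := by
    intro χ hχ
    rw [hΓin, Finset.sum_eq_single χ]
    · simp
    · intro b _ hb
      rw [if_neg hb, mul_zero]
    · intro h
      exact absurd hχ h
  have hΓnot : ∀ j, j ∉ X → classInner Γ (j : G → ℂ) = 0 := by
    intro j hj
    rw [hΓin, Finset.sum_eq_zero]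
    · simp
    · intro χ hχ
      have h9 : ¬ (χ : IrrCharacter G) = j := by
        intro h
        rw [h] at hχ
        exact hj hχ
      rw [if_neg h9, mul_zero]
  have hνin : ∀ (d : DD P p) (j : IrrCharacter G), classInner (ν d : G → ℂ) (j : G → ℂ) =
      if ν d = j then 1 else 0 := by
    intro d j
    rw [classInner_irr (ν d).2 j.2]
    by_cases h : ν d = j
    · rw [if_pos (congrArg Subtype.val h), if_pos h]
    · rw [if_neg (fun h' => h (Subtype.ext h')), if_neg h]
  have hinX : ∀ χ ∈ X, ∀ d : DD P p, classInner (Th P d.1) (χ : G → ℂ) = ((- εX χ : ℤ) : ℂ) := by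
    intro χ hχ d
    have h9 : ¬ ν d = χ := by
      intro h
      rw [← h] at hχ
      exact hνX d hχ
    rw [hΘ' d, classInner_add_left, classInner_smul_left, hΓX χ hχ, hνin, if_neg h9]
    push_cast
    ring
  have hinY : ∀ (d d' : DD P p), classInner (Th P d.1) (ν d' : G → ℂ) =
      (ε : ℂ) * (if ν d = ν d' then 1 else 0) := by
    intro d d'
    rw [hΘ' d, classInner_add_left, classInner_smul_left, hΓnot _ (hνX d'), hνin, zero_add]
  -- degrees
  have hat1 : ∀ d : DD P p, Γ 1 + (ε : ℂ) * (ν d : G → ℂ) 1 = 0 := by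
    intro d
    have h1 := Th_one (P := P) d.1
    rw [hΘ' d] at h1
    exact h1
  have hdeg : ∀ d, charDegree (ν d : G → ℂ) = charDegree (ν d₀ : G → ℂ) := by
    intro d
    have h1 := hat1 d
    have h2 := hat1 d₀
    have h3 : (ε : ℂ) * ((ν d : G → ℂ) 1 - (ν d₀ : G → ℂ) 1) = 0 := by
      linear_combination h1 - h2
    have h4 := sub_eq_zero.mp ((mul_eq_zero.mp h3).resolve_left hεC)
    have h5 : (charDegree (ν d : G → ℂ) : ℂ) = (charDegree (ν d₀ : G → ℂ) : ℂ) := by
      rw [charDegree_natCast (isCharacter_of_isIrrCharacter (ν d).2),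
        charDegree_natCast (isCharacter_of_isIrrCharacter (ν d₀).2), h4]
    exact_mod_cast h5
  set D₀ := charDegree (ν d₀ : G → ℂ) with hD₀
  have hD₀pos : 0 < D₀ := charDegree_pos (ν d₀).2
  -- the multiplicity of the trivial character of `P`
  obtain ⟨a, ha1, ha2⟩ := sum_Ak_nat hP hp2 (ν d₀)
  have hprin : ν d₀ ∈ principalBlock M G := (hB _).mpr (Finset.mem_union_right _ (hνY d₀))
  have hD₀a : (D₀ : ℤ) = (p : ℤ) * a + ε * e := by
    have h1 : ∑ d : DD P p, Ak hP d.1 (ν d₀ : G → ℂ) =
        ∑ d : DD P p, (ε : ℂ) * (if ν d = ν d₀ then 1 else 0) := by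
      refine Finset.sum_congr rfl fun d _ => ?_
      rw [← (Cfsg.Agent.Lib.ModRep.Prime.inner_alternative hP hp2 hM d.2.1 (ν d₀)).1 hprin, hinY]
    have h2 : ∑ d : DD P p, (ε : ℂ) * (if ν d = ν d₀ then (1 : ℂ) else 0) = (ε : ℂ) * (e : ℂ) := by
      rw [← Finset.mul_sum, Finset.sum_boole]
      congr 2
      have h3 := card_class (p := p) (P := P) hP hp2 hN d₀
      rw [← h3, Nat.card_eq_fintype_card, Fintype.card_subtype]
      congr 1
      apply Finset.filter_congr
      intro d _
      exact hν d d₀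
    rw [h2, ha2] at h1
    have h3 : (D₀ : ℂ) = (p : ℂ) * a + (ε : ℂ) * e := by
      linear_combination h1
    exact_mod_cast h3
  have hte : (Y.card : ℤ) * e = (p : ℤ) - 1 := by
    have h1 : ((p - 1 : ℕ) : ℤ) = (p : ℤ) - 1 := by
      rw [Nat.cast_sub (by omega)]
      simp
    rw [← h1, ← hYc]
    push_cast
    ring
  have hYpos : 0 < Y.card := Finset.card_pos.mpr ⟨_, hνY d₀⟩
  have he0 : 0 < e := by
    rcases Nat.eq_zero_or_pos e with h | h
    · rw [h, mul_zero] at hYc
      omega
    · exact h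
  by_cases ht1 : Y.card = 1
  · rw [ht1, one_mul] at hYc
    have hpe : p = e + 1 := by omega
    rw [hpe] at hn ⊢
    nlinarith
  have ht2 : 2 ≤ Y.card := by omega
  obtain ⟨ψ, hψY, hψne⟩ := Finset.exists_mem_ne (by omega : 1 < Y.card) (ν d₀)
  obtain ⟨d₁, hd₁⟩ := (hY ψ).mp hψY
  by_cases ha0 : a = 0
  · -- no fixed space
    rw [ha0] at hD₀a
    have hε1 : ε = 1 := by
      rcases hε with h | h
      · exact h
      · exfalso
        rw [h] at hD₀a
        have h1 : (0 : ℤ) < D₀ := by exact_mod_cast hD₀pos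
        have h2 : (0 : ℤ) < e := by exact_mod_cast he0
        push_cast at hD₀a
        linarith
    have hDe : D₀ = e := by
      rw [hε1] at hD₀a
      have h1 : (D₀ : ℤ) = e := by
        rw [hD₀a]
        push_cast
        ring
      exact_mod_cast h1
    have hne12 : (ν d₀) ≠ (ν d₁) := by
      rw [hd₁]
      exact fun h => hψne h.symm
    by_cases ht3 : 3 ≤ Y.card
    · exfalso
      -- the trivial character lies in `X`
      have hone : oneIrr G ∈ X := by
        by_contra hnot
        have hall : ∀ d : DD P p, ν d = oneIrr G := by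
          intro d
          have h1 := classInner_Th_one (P := P) d.2.2
          have h2 : classInner (Th P d.1) ((oneIrr G : IrrCharacter G) : G → ℂ) = -1 := h1
          rw [hΘ' d, classInner_add_left, classInner_smul_left, hΓnot _ hnot, hνin] at h2
          by_contra h3
          rw [if_neg h3] at h2
          simp at h2
        exact hne12 ((hall d₀).trans (hall d₁).symm)
      -- characters of degree one
      have hlin : ∀ χ ∈ X, χ ≠ oneIrr G → p - 1 ≤ charDegree (χ : G → ℂ) := by
        intro χ hχ hχ1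
        have hne1 : charDegree (χ : G → ℂ) ≠ 1 := by
          intro h1
          apply hχ1
          apply Subtype.ext
          funext g
          exact eq_one_of_charDegree_eq_one hna (isCharacter_of_isIrrCharacter χ.2) h1 g
        have hpos := charDegree_pos χ.2
        have hdvd := hXdeg χ hχ
        rcases hεX χ hχ with h | h
        · rw [h] at hdvd
          have h2 : (0 : ℤ) < (charDegree (χ : G → ℂ) : ℤ) - 1 * 1 := by
            have : 2 ≤ charDegree (χ : G → ℂ) := by omega
            have : (2 : ℤ) ≤ (charDegree (χ : G → ℂ) : ℤ) := by exact_mod_cast this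
            linarith
          have h3 := Int.le_of_dvd h2 hdvd
          have h4 : (p : ℤ) ≤ charDegree (χ : G → ℂ) := by linarith
          have h5 : p ≤ charDegree (χ : G → ℂ) := by exact_mod_cast h4
          omega
        · rw [h] at hdvd
          have h2 : (0 : ℤ) < (charDegree (χ : G → ℂ) : ℤ) - 1 * (-1) := by
            have : (1 : ℤ) ≤ (charDegree (χ : G → ℂ) : ℤ) := by exact_mod_cast hpos
            linarith
          have h3 := Int.le_of_dvd h2 hdvd
          have h4 : (p : ℤ) ≤ charDegree (χ : G → ℂ) + 1 := by linarith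
          have h5 : p ≤ charDegree (χ : G → ℂ) + 1 := by exact_mod_cast h4
          omega
      -- the case `e = 1`
      have he2 : 2 ≤ e := by
        by_contra hlt
        have he1 : e = 1 := by omega
        have h1 : D₀ = 1 := by omega
        apply hνX d₀
        have h2 : ν d₀ = oneIrr G := by
          apply Subtype.ext
          funext g
          exact eq_one_of_charDegree_eq_one hna (isCharacter_of_isIrrCharacter (ν d₀).2) h1 g
        rw [h2]
        exact hone
      -- the values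
      have hpoint : ∀ χ ∈ X, ∀ g, (ν d₀ : G → ℂ) g ≠ (ν d₁ : G → ℂ) g → (χ : G → ℂ) g = (εX χ : ℤ) := by
        intro χ hχ g hg
        have hne : Th P d₀.1 g ≠ Th P d₁.1 g := by
          intro h
          apply hg
          have h1 : (Γ + (ε : ℂ) • (ν d₀ : G → ℂ)) g = (Γ + (ε : ℂ) • (ν d₁ : G → ℂ)) g := by
            rw [← hΘ' d₀, ← hΘ' d₁]
            exact h
          simp only [Pi.add_apply, Pi.smul_apply, smul_eq_mul] at h1
          have h2 : (ε : ℂ) * ((ν d₀ : G → ℂ) g - (ν d₁ : G → ℂ) g) = 0 := by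
            linear_combination h1
          exact sub_eq_zero.mp ((mul_eq_zero.mp h2).resolve_left hεC)
        obtain ⟨x, hc, hd⟩ := exists_conj_of_Th_ne d₀.2 d₁.2 hne
        have hχP : χ ∈ principalBlock M G := (hB _).mpr (Finset.mem_union_left _ hχ)
        have h1 := value_eq_sign hM hP hp2 hχP (- εX χ) (hinX χ hχ) (c := ⟨_, hc⟩) hd
        have h2 := isClassFunction_of_isCharacter (isCharacter_of_isIrrCharacter χ.2) g x⁻¹
        have h3 : x⁻¹ * g * x⁻¹⁻¹ = x⁻¹ * g * x := by simp
        rw [h3] at h2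
        rw [← h2]
        have h4 : (χ : G → ℂ) (x⁻¹ * g * x) = - ((- εX χ : ℤ) : ℂ) := h1
        rw [h4]
        push_cast
        ring
      -- the constituents
      have hmemb : ∀ χ ∈ X, (εX χ = 1 ∧ classInner (fun g => conj ((ν d₀ : G → ℂ) g) * (ν d₀ : G → ℂ) g) (χ : G → ℂ) ≠ 0) ∨
          (εX χ = -1 ∧ classInner (fun g => conj ((ν d₁ : G → ℂ) g) * (ν d₀ : G → ℂ) g) (χ : G → ℂ) ≠ 0) := by
        intro χ hχ
        have h1 := tensor_step hne12 (εX χ) (hpoint χ hχ)
        obtain ⟨a₁, ha₁⟩ := exists_nat_classInner (isCharacter_mul (isCharacter_of_isIrrCharacter χ.2)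
          (isCharacter_of_isIrrCharacter (ν d₀).2)) (isCharacter_of_isIrrCharacter (ν d₀).2)
        obtain ⟨a₂, ha₂⟩ := exists_nat_classInner (isCharacter_mul (isCharacter_of_isIrrCharacter χ.2)
          (isCharacter_of_isIrrCharacter (ν d₁).2)) (isCharacter_of_isIrrCharacter (ν d₀).2)
        have ha₁' : classInner (fun g => (χ : G → ℂ) g * (ν d₀ : G → ℂ) g) (ν d₀ : G → ℂ) = a₁ := ha₁
        have ha₂' : classInner (fun g => (χ : G → ℂ) g * (ν d₁ : G → ℂ) g) (ν d₀ : G → ℂ) = a₂ := ha₂
        have h2 : (a₁ : ℤ) - a₂ = εX χ := by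
          rw [ha₁', ha₂'] at h1
          exact_mod_cast h1
        rcases hεX χ hχ with h | h
        · left
          refine ⟨h, classInner_conj_mul_ne_zero _ _ _ ?_⟩
          rw [ha₁']
          have : a₁ ≠ 0 := by
            rintro rfl
            rw [h] at h2
            push_cast at h2
            omega
          exact_mod_cast this
        · right
          refine ⟨h, classInner_conj_mul_ne_zero _ _ _ ?_⟩
          rw [ha₂']
          have : a₂ ≠ 0 := by
            rintro rfl
            rw [h] at h2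
            push_cast at h2
            omega
          exact_mod_cast this
      let Xp := X.filter (fun χ => εX χ = 1)
      let Xm := X.filter (fun χ => ¬ εX χ = 1)
      have hXm : ∀ χ ∈ Xm, εX χ = -1 := by
        intro χ hχ
        obtain ⟨h1, h2⟩ := Finset.mem_filter.mp hχ
        exact (hεX χ h1).resolve_left h2
      have hSp : ∑ χ ∈ Xp, charDegree (χ : G → ℂ) ≤ D₀ * D₀ := by
        have h1 := sum_deg_le (charDegree_conj_mul (ν d₀) (ν d₀)).1 Xp (by
          intro χ hχ
          obtain ⟨h1, h2⟩ := Finset.mem_filter.mp hχ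
          rcases hmemb χ h1 with h | h
          · exact h.2
          · rw [h.1] at h2
            norm_num at h2)
        rwa [(charDegree_conj_mul (ν d₀) (ν d₀)).2] at h1
      have hsumdeg : ∑ χ ∈ X, charDegree (χ : G → ℂ) =
          ∑ χ ∈ Xp, charDegree (χ : G → ℂ) + ∑ χ ∈ Xm, charDegree (χ : G → ℂ) :=
        (Finset.sum_filter_add_sum_filter_not X _ _).symm
      have hrel : (∑ χ ∈ Xp, (charDegree (χ : G → ℂ) : ℤ)) - ∑ χ ∈ Xm, (charDegree (χ : G → ℂ) : ℤ) = e := by
        have h1 := hat1 d₀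
        have h2 : Γ 1 = - ∑ χ ∈ X, (εX χ : ℂ) * (charDegree (χ : G → ℂ) : ℂ) := by
          show - ∑ χ ∈ X, (εX χ : ℂ) * (χ : G → ℂ) 1 = _
          congr 1
          refine Finset.sum_congr rfl fun χ _ => ?_
          rw [charDegree_natCast (isCharacter_of_isIrrCharacter χ.2)]
        have h3 : (ν d₀ : G → ℂ) 1 = (D₀ : ℂ) :=
          (charDegree_natCast (isCharacter_of_isIrrCharacter (ν d₀).2)).symm
        rw [h2, h3, hε1] at h1
        have h4 : ∑ χ ∈ X, (εX χ : ℤ) * (charDegree (χ : G → ℂ) : ℤ) = (D₀ : ℤ) := by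
          have h5 : ((∑ χ ∈ X, (εX χ : ℤ) * (charDegree (χ : G → ℂ) : ℤ) : ℤ) : ℂ) = ((D₀ : ℤ) : ℂ) := by
            push_cast
            push_cast at h1
            linear_combination -h1
          exact_mod_cast h5
        have h6 : ∑ χ ∈ X, (εX χ : ℤ) * (charDegree (χ : G → ℂ) : ℤ) =
            ∑ χ ∈ Xp, (εX χ : ℤ) * (charDegree (χ : G → ℂ) : ℤ) +
              ∑ χ ∈ Xm, (εX χ : ℤ) * (charDegree (χ : G → ℂ) : ℤ) :=
          (Finset.sum_filter_add_sum_filter_not X _ _).symm
        have h7 : ∑ χ ∈ Xp, (εX χ : ℤ) * (charDegree (χ : G → ℂ) : ℤ) =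
            ∑ χ ∈ Xp, (charDegree (χ : G → ℂ) : ℤ) := by
          refine Finset.sum_congr rfl fun χ hχ => ?_
          rw [(Finset.mem_filter.mp hχ).2, one_mul]
        have h8 : ∑ χ ∈ Xm, (εX χ : ℤ) * (charDegree (χ : G → ℂ) : ℤ) =
            - ∑ χ ∈ Xm, (charDegree (χ : G → ℂ) : ℤ) := by
          rw [← Finset.sum_neg_distrib]
          refine Finset.sum_congr rfl fun χ hχ => ?_
          rw [hXm χ hχ]
          ring
        rw [h6, h7, h8] at h4
        rw [← hDe]
        linarith
      have hlow : 1 + (e - 1) * (p - 1) ≤ ∑ χ ∈ X, charDegree (χ : G → ℂ) := by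
        have h1 : ∑ χ ∈ X, charDegree (χ : G → ℂ) =
            charDegree ((oneIrr G : IrrCharacter G) : G → ℂ) +
              ∑ χ ∈ X.erase (oneIrr G), charDegree (χ : G → ℂ) :=
          (Finset.add_sum_erase X _ hone).symm
        have h2 : charDegree ((oneIrr G : IrrCharacter G) : G → ℂ) = 1 := by
          apply charDegree_eq_of_eq_natCast
          show (1 : ℂ) = _
          simp
        have h3 : (X.erase (oneIrr G)).card • (p - 1) ≤ ∑ χ ∈ X.erase (oneIrr G), charDegree (χ : G → ℂ) :=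
          Finset.card_nsmul_le_sum _ _ _ (fun χ hχ => by
            obtain ⟨h4, h5⟩ := Finset.mem_erase.mp hχ
            exact hlin χ h5 h4)
        rw [Finset.card_erase_of_mem hone, hXc, smul_eq_mul] at h3
        omega
      have hzp : ((∑ χ ∈ Xp, charDegree (χ : G → ℂ) : ℕ) : ℤ) ≤ (e : ℤ) * e := by
        rw [hDe] at hSp
        exact_mod_cast hSp
      have hlowZ : (1 : ℤ) + ((e : ℤ) - 1) * ((p : ℤ) - 1) ≤ ∑ χ ∈ Xp, (charDegree (χ : G → ℂ) : ℤ) +
          ∑ χ ∈ Xm, (charDegree (χ : G → ℂ) : ℤ) := by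
        rw [hsumdeg] at hlow
        have h1 : ((1 + (e - 1) * (p - 1) : ℕ) : ℤ) ≤
            ((∑ χ ∈ Xp, charDegree (χ : G → ℂ) + ∑ χ ∈ Xm, charDegree (χ : G → ℂ) : ℕ) : ℤ) := by
          exact_mod_cast hlow
        push_cast [Nat.cast_sub (by omega : 1 ≤ e), Nat.cast_sub (by omega : 1 ≤ p)] at h1
        exact h1
      push_cast at hzp
      exact arith_zero (Y.card : ℤ) e p _ _ (by exact_mod_cast ht3) (by exact_mod_cast he2) hte hzp hrel hlowZ
    · -- `t = 2`
      have ht : Y.card = 2 := by omega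
      rw [ht] at hYc
      have hpe : p = 2 * e + 1 := by omega
      rw [hpe] at hn ⊢
      nlinarith
  · -- a fixed space
    obtain ⟨ξ, hξ, hker, hne, hs0, hsa⟩ :=
      exists_xi hP (isCharacter_of_isIrrCharacter (ν d₀).2) a ha1 ha0
    have hle := card_mul_deg_le hP hp2 Γ ε hε0 ν hΘ' Y hY D₀ hdeg
      (isCharacter_of_isIrrCharacter hξ) hker d₀ hne
    have h1 := arith_pos (Y.card : ℤ) e n (charDegree ξ) a D₀ ε p hε (by exact_mod_cast ht2)
      (by exact_mod_cast he0) (by exact_mod_cast hs0) (by exact_mod_cast hsa) hD₀a hte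
      (by exact_mod_cast hle) (by exact_mod_cast hp1)
    exact_mod_cast h1

/-- **A non-abelian simple group with `p ∥ |G|` has order at least `p (p ^ 2 - 1) / 2`.** -/
theorem card_ge [IsSimpleGroup G] (hna : ¬ IsMulCommutative G) (hP : Nat.card P = p)
    (hp2 : ¬ p ^ 2 ∣ Nat.card G) : p * p ^ 2 ≤ 2 * Nat.card G + p := by
  have hnn : ¬ P.Normal := by
    intro hn
    rcases (inferInstance : IsSimpleGroup G).eq_bot_or_eq_top_of_normal P hn with h | h
    · rw [h, Subgroup.card_bot] at hP
      exact hp.out.one_lt.ne hP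
    · apply hna
      have hcyc : IsCyclic P := isCyclic_of_prime_card hP
      have hcomm : ∀ a b : G, a * b = b * a := by
        intro a b
        have ha : a ∈ P := by rw [h]; trivial
        have hb : b ∈ P := by rw [h]; trivial
        have h1 := hcyc.isMulCommutative.is_comm.comm ⟨a, ha⟩ ⟨b, hb⟩
        exact congrArg Subtype.val h1
      exact ⟨⟨hcomm⟩⟩
  have h1 := main_bound hna hP hp2 hnn
  have hle : Cn P ≤ Nn P := Subgroup.centralizer_le_normalizer _
  have h2 : Nat.card (Nn P) = (Cn P).relIndex (Nn P) * Nat.card (Cn P) := by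
    have h3 := Subgroup.card_mul_index ((Cn P).subgroupOf (Nn P))
    have h4 : Nat.card ((Cn P).subgroupOf (Nn P)) = Nat.card (Cn P) :=
      Nat.card_congr (Subgroup.subgroupOfEquivOfLe hle).toEquiv
    rw [h4] at h3
    rw [← h3, mul_comm]
    rfl
  have h3 : p ≤ Nat.card (Cn P) := by
    rw [← hP]
    exact Subgroup.card_le_of_le (le_centralizer hP)
  have h4 := (Nn P).card_mul_index
  set n := (Nn P).index
  set e := (Cn P).relIndex (Nn P)
  have h5 : n * e * p ≤ Nat.card G := by
    rw [← h4, h2]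
    calc n * e * p ≤ n * e * Nat.card (Cn P) := Nat.mul_le_mul_left _ h3
      _ = _ := by ring
  nlinarith

end Cfsg.Agent.Lib.BrauerOrder.Bound
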