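import Cfsg.Agent.Lib.BrauerOrder.Basic

/-!
# The order of a simple group whose order is exactly divisible by a prime `p`

A non-abelian simple group with `p ∥ |G|` has order at least `p (p ^ 2 - 1) / 2`.
-/

set_option autoImplicit false
set_option linter.style.haveILetI false
set_option linter.unusedSectionVars false

namespace Cfsg.Agent.Lib.BrauerOrder.Main

open Cfsg Cfsg.Agent.Lib.Char.Induced Cfsg.Agent.Lib.Char.Ortho Cfsg.Agent.Lib.Char.Linear
open Cfsg.Agent.Lib.Char.Basic Cfsg.Agent.Lib.Char.GenLattice Cfsg.Agent.Lib.Char.Complete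
open Cfsg.Agent.Lib.Char.Degree Cfsg.Agent.Lib.Char.IndRep Cfsg.Agent.Lib.Char.Clifford
open Cfsg.Agent.Lib.ExcP.Gram Cfsg.Agent.Lib.ExcP.Inst Cfsg.Agent.Lib.ExcP.BlockHA
open Cfsg.Agent.Lib.Blocks.Local Cfsg.Agent.Lib.Blocks.Central
open Cfsg.Agent.Lib.BrauerOrder.Basic
open scoped ComplexConjugate

universe u

variable {G : Type u} [Group G] [Fintype G] {p : ℕ} [hp : Fact p.Prime] {P : Subgroup G}

section Abstract

variable [Fintype (IrrCharacter G)]

/-- The bound from a character induced from the normalizer. -/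
theorem card_mul_deg_le (hP : Nat.card P = p) (hp2 : ¬ p ^ 2 ∣ Nat.card G) [Fintype (Cn P)]
    [Fintype (DD P p)] (Γ : G → ℂ) (ε : ℤ) (hε : ε ≠ 0)
    (ν : DD P p → IrrCharacter G) (hΘ : ∀ d : DD P p, Th P d.1 = Γ + (ε : ℂ) • (ν d : G → ℂ))
    (Y : Finset (IrrCharacter G)) (hY : ∀ ψ, ψ ∈ Y ↔ ∃ d, ν d = ψ) (D₀ : ℕ)
    (hdeg : ∀ d, charDegree (ν d : G → ℂ) = D₀) {ξ : Nn P → ℂ} (hξ : IsCharacter (Nn P) ξ)
    (hker : ∀ (n : Nn P) (u : G) (hu : u ∈ P),
      ξ (n * ⟨u, Subgroup.centralizer_le_normalizer _ (le_centralizer hP hu)⟩) = ξ n)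
    (d₀ : DD P p) (hne : classInner (indFun (Nn P) ξ) (ν d₀ : G → ℂ) ≠ 0) :
    Y.card * D₀ ≤ (Nn P).index * charDegree ξ := by
  classical
  set Ξ := indFun (Nn P) ξ with hΞ
  have hΞc : IsCharacter G Ξ := isCharacter_indFun _ hξ
  have hsame : ∀ d : DD P p, classInner (ν d : G → ℂ) Ξ = classInner (ν d₀ : G → ℂ) Ξ := by
    intro d
    have h1 := classInner_Th_indFun hP hp2 ξ (isClassFunction_of_isCharacter hξ) hker d.2
    have h2 := classInner_Th_indFun hP hp2 ξ (isClassFunction_of_isCharacter hξ) hker d₀.2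
    rw [hΘ d, classInner_add_left, classInner_smul_left] at h1
    rw [hΘ d₀, classInner_add_left, classInner_smul_left] at h2
    have h3 : (ε : ℂ) * (classInner (ν d : G → ℂ) Ξ - classInner (ν d₀ : G → ℂ) Ξ) = 0 := by
      linear_combination h1 - h2
    have hεC : (ε : ℂ) ≠ 0 := by exact_mod_cast hε
    exact sub_eq_zero.mp ((mul_eq_zero.mp h3).resolve_left hεC)
  have hS : ∀ j ∈ Y, classInner Ξ (j : G → ℂ) ≠ 0 := by
    intro j hj
    obtain ⟨d, rfl⟩ := (hY j).mp hj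
    intro h0
    apply hne
    have h1 : classInner (ν d : G → ℂ) Ξ = 0 := by
      rw [← classInner_conj, h0]
      simp
    rw [hsame d] at h1
    rw [← classInner_conj, h1]
    simp
  have h1 := sum_deg_le hΞc Y hS
  have h2 : ∑ j ∈ Y, charDegree (j : G → ℂ) = Y.card * D₀ := by
    rw [Finset.sum_congr rfl (g := fun _ => D₀)]
    · simp
    · intro j hj
      obtain ⟨d, rfl⟩ := (hY j).mp hj
      exact hdeg d
  have h3 : charDegree Ξ = (Nn P).index * charDegree ξ := by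
    have h4 : (charDegree Ξ : ℂ) = ((Nn P).index : ℂ) * (charDegree ξ : ℂ) := by
      rw [charDegree_natCast hΞc, charDegree_natCast hξ, hΞ, indFun_one]
    exact_mod_cast h4
  rw [h2, h3] at h1
  exact h1

variable {M : Ideal AlgInt}

/-- The values of a non-exceptional character on `p`-singular elements of the centralizer. -/
theorem value_eq_sign (hM : IsPModular p M) (hP : Nat.card P = p) (hp2 : ¬ p ^ 2 ∣ Nat.card G)
    [Fintype P] [Fintype (Cn P)] [Fintype (DD P p)] {χ : IrrCharacter G}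
    (hχ : χ ∈ principalBlock M G) (z : ℤ)
    (hz : ∀ d : DD P p, classInner (Th P d.1) (χ : G → ℂ) = (z : ℂ)) {c : Cn P}
    (hd : p ∣ orderOf (c : G)) : (χ : G → ℂ) c = -(z : ℂ) := by
  classical
  obtain ⟨V, hVn, hV, hq', hc⟩ := exists_complement hP hp2
  obtain ⟨⟨a, v⟩, hx⟩ := hc.2 c
  have hx' : ((a : Cn P) : G) * ((v : Cn P) : G) = c := congrArg Subtype.val hx
  set u : G := ((a : Cn P) : G) with hu
  have huP : u ∈ P := a.2
  have hu1 : u ≠ 1 := by
    intro h1
    rw [h1, one_mul] at hx'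
    apply hV
    have h2 : orderOf (v : Cn P) = orderOf c := by
      rw [← Subgroup.orderOf_coe (c), ← Subgroup.orderOf_coe (v : Cn P), hx']
    have h3 : orderOf v = orderOf (v : Cn P) := (Subgroup.orderOf_coe v).symm
    have h4 : p ∣ orderOf v := by
      rw [h3, h2, ← Subgroup.orderOf_coe c]
      exact hd
    exact h4.trans (orderOf_dvd_natCard v)
  have hord : ∃ k : ℕ, orderOf u = p ^ k := by
    have h1 : orderOf (⟨u, huP⟩ : P) ∣ p := hP ▸ orderOf_dvd_natCard _
    have h2 : orderOf u = orderOf (⟨u, huP⟩ : P) := (Subgroup.orderOf_mk u huP).symm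
    rw [h2]
    rcases (Nat.dvd_prime hp.out).mp h1 with h | h
    · exact ⟨0, by simpa using h⟩
    · exact ⟨1, by simpa using h⟩
  have hH := centralizer_singleton_eq hP huP hu1
  have h1 : (χ : G → ℂ) (u * ((v : Cn P) : G)) = (χ : G → ℂ) u :=
    value_of_principal hM hord hH V hVn hV hχ v.2
  rw [hx'] at h1
  rw [h1]
  have h2 := Cfsg.Agent.Lib.ModRep.Princ2.value_of_inner_eq hP hp2
    (fun w : P => conj ((χ : G → ℂ) w)) (z : ℂ) (fun d => by
      have h3 := (Cfsg.Agent.Lib.ModRep.Prime.inner_alternative hP hp2 hM d.2.1 χ).1 hχ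
      rw [hz d] at h3
      exact h3.symm) ⟨u, huP⟩ (fun h => hu1 (congrArg Subtype.val h))
  have h3 : conj ((χ : G → ℂ) u) = -(z : ℂ) := h2
  have h4 := congrArg conj h3
  rw [Complex.conj_conj] at h4
  rw [h4]
  simp

/-- If two of the `Θ` differ at `g`, then `g` is conjugate to a `p`-singular element of the centralizer. -/
theorem exists_conj_of_Th_ne {κ₁ κ₂ : Cn P →* ℂˣ} (h1 : IsD P p κ₁) (h2 : IsD P p κ₂) {g : G}
    (h : Th P κ₁ g ≠ Th P κ₂ g) :
    ∃ (x : G) (hc : x⁻¹ * g * x ∈ Cn P), p ∣ orderOf (x⁻¹ * g * x) := by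
  classical
  by_contra hcon
  push Not at hcon
  apply h
  rw [Th, Th, indFun_apply, indFun_apply]
  congr 1
  refine Finset.sum_congr rfl fun x _ => ?_
  by_cases hx : x⁻¹ * g * x ∈ Cn P
  · rw [extendByZero_of_mem _ _ hx, extendByZero_of_mem _ _ hx, fl, fl]
    have hd := hcon x hx
    rw [apply_eq_one_of_not_dvd h1.1 ⟨_, hx⟩ hd, apply_eq_one_of_not_dvd h2.1 ⟨_, hx⟩ hd]
  · rw [extendByZero_of_not_mem _ _ hx, extendByZero_of_not_mem _ _ hx]

/-- The difference of inner products. -/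
theorem tensor_step {μ₁ μ₂ χ : IrrCharacter G} (hne : μ₁ ≠ μ₂) (σ : ℤ)
    (hσ : ∀ g, (μ₁ : G → ℂ) g ≠ (μ₂ : G → ℂ) g → (χ : G → ℂ) g = σ) :
    classInner (fun g => (χ : G → ℂ) g * (μ₁ : G → ℂ) g) (μ₁ : G → ℂ) -
      classInner (fun g => (χ : G → ℂ) g * (μ₂ : G → ℂ) g) (μ₁ : G → ℂ) = σ := by
  have h1 : classInner (μ₁ : G → ℂ) (μ₁ : G → ℂ) = 1 := classInner_self_of_isIrr μ₁.2
  have h2 : classInner (μ₂ : G → ℂ) (μ₁ : G → ℂ) = 0 :=
    classInner_eq_zero_of_isIrr_of_ne μ₂.2 μ₁.2 (fun h => hne (Subtype.ext h).symm)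
  have h3 : classInner (fun g => (χ : G → ℂ) g * (μ₁ : G → ℂ) g) (μ₁ : G → ℂ) -
      classInner (fun g => (χ : G → ℂ) g * (μ₂ : G → ℂ) g) (μ₁ : G → ℂ) =
      (σ : ℂ) * (classInner (μ₁ : G → ℂ) (μ₁ : G → ℂ) - classInner (μ₂ : G → ℂ) (μ₁ : G → ℂ)) := by
    simp only [classInner_def]
    have key : ∑ g : G, (χ : G → ℂ) g * (μ₁ : G → ℂ) g * conj ((μ₁ : G → ℂ) g) -
        ∑ g : G, (χ : G → ℂ) g * (μ₂ : G → ℂ) g * conj ((μ₁ : G → ℂ) g) =
        (σ : ℂ) * (∑ g : G, (μ₁ : G → ℂ) g * conj ((μ₁ : G → ℂ) g) -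
          ∑ g : G, (μ₂ : G → ℂ) g * conj ((μ₁ : G → ℂ) g)) := by
      rw [← Finset.sum_sub_distrib, ← Finset.sum_sub_distrib, Finset.mul_sum]
      refine Finset.sum_congr rfl fun g _ => ?_
      by_cases hg : (μ₁ : G → ℂ) g = (μ₂ : G → ℂ) g
      · rw [hg]
        ring
      · rw [hσ g hg]
        ring
    linear_combination (Nat.card G : ℂ)⁻¹ * key
  rw [h3, h1, h2]
  ring

/-- A constituent of a product of two characters. -/
theorem classInner_conj_mul_ne_zero (μ₁ μ₂ χ : IrrCharacter G)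
    (h : classInner (fun g => (χ : G → ℂ) g * (μ₂ : G → ℂ) g) (μ₁ : G → ℂ) ≠ 0) :
    classInner (fun g => conj ((μ₂ : G → ℂ) g) * (μ₁ : G → ℂ) g) (χ : G → ℂ) ≠ 0 := by
  intro h0
  apply h
  have h1 : classInner (fun g => (χ : G → ℂ) g * (μ₂ : G → ℂ) g) (μ₁ : G → ℂ) =
      conj (classInner (fun g => conj ((μ₂ : G → ℂ) g) * (μ₁ : G → ℂ) g) (χ : G → ℂ)) := by
    simp only [classInner_def, map_mul, map_sum, Complex.conj_conj, map_inv₀, map_natCast]
    congr 1
    refine Finset.sum_congr rfl fun g _ => ?_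
    ring
  rw [h1, h0]
  simp

/-- The degree of the product. -/
theorem charDegree_conj_mul (μ₁ μ₂ : IrrCharacter G) :
    IsCharacter G (fun g => conj ((μ₂ : G → ℂ) g) * (μ₁ : G → ℂ) g) ∧
    charDegree (fun g => conj ((μ₂ : G → ℂ) g) * (μ₁ : G → ℂ) g) =
      charDegree (μ₂ : G → ℂ) * charDegree (μ₁ : G → ℂ) := by
  have h1 : IsCharacter G (fun g => conj ((μ₂ : G → ℂ) g) * (μ₁ : G → ℂ) g) :=
    isCharacter_mul (Cfsg.Agent.Lib.CharX.Conj.isCharacter_conj (isCharacter_of_isIrrCharacter μ₂.2))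
      (isCharacter_of_isIrrCharacter μ₁.2)
  refine ⟨h1, ?_⟩
  have h2 : (charDegree (fun g => conj ((μ₂ : G → ℂ) g) * (μ₁ : G → ℂ) g) : ℂ) =
      (charDegree (μ₂ : G → ℂ) : ℂ) * (charDegree (μ₁ : G → ℂ) : ℂ) := by
    rw [charDegree_natCast h1, charDegree_natCast (isCharacter_of_isIrrCharacter μ₂.2),
      charDegree_natCast (isCharacter_of_isIrrCharacter μ₁.2), ← charDegree_natCast
      (isCharacter_of_isIrrCharacter μ₂.2), map_natCast]
  exact_mod_cast h2

end Abstract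

/-- The number of conjugates of a non-normal subgroup of prime order, `p ∥ |G|`. -/
theorem index_ge (hP : Nat.card P = p) (hp2 : ¬ p ^ 2 ∣ Nat.card G) (hnn : ¬ P.Normal) :
    p + 1 ≤ (Nn P).index := by
  classical
  have hPp : IsPGroup p P := IsPGroup.of_card (n := 1) (by rw [hP, pow_one])
  have hndvd : ¬ p ∣ P.index := by
    intro h1
    apply hp2
    have h2 := P.card_mul_index
    rw [hP] at h2
    rw [← h2, pow_two]
    exact mul_dvd_mul_left p h1
  let P₀ : Sylow p G := hPp.toSylow hndvd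
  have h1 : Nat.card (Sylow p G) = (Nn P).index := Sylow.card_eq_index_normalizer P₀
  have h2 := card_sylow_modEq_one p G
  rw [h1] at h2
  have h3 : (Nn P).index ≠ 1 := by
    intro h
    apply hnn
    have h4 : Nn P = ⊤ := Subgroup.index_eq_one.mp h
    exact Subgroup.normalizer_eq_top_iff.mp h4
  have hpos : 0 < (Nn P).index := Nat.pos_of_ne_zero Subgroup.index_ne_zero_of_finite
  have h5 : p ∣ (Nn P).index - 1 := (Nat.modEq_iff_dvd' (by omega)).mp h2.symm
  have h6 := Nat.le_of_dvd (by omega) h5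
  omega

/-- A constituent of the restriction to the normalizer with `P` in its kernel. -/
theorem exists_xi (hP : Nat.card P = p) [Fintype P] {μ : G → ℂ} (hμ : IsCharacter G μ)
    (a : ℕ) (ha : (p : ℂ)⁻¹ * ∑ u : P, conj (μ u) = a) (ha0 : a ≠ 0) :
    ∃ ξ : Nn P → ℂ, IsIrrCharacter (Nn P) ξ ∧
      (∀ (n : Nn P) (u : G) (hu : u ∈ P),
        ξ (n * ⟨u, Subgroup.centralizer_le_normalizer _ (le_centralizer hP hu)⟩) = ξ n) ∧
      classInner (indFun (Nn P) ξ) μ ≠ 0 ∧ 0 < charDegree ξ ∧ charDegree ξ ≤ a := by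
  classical
  letI : Fintype (Nn P) := Fintype.ofFinite _
  haveI := Cfsg.Agent.Lib.Char.Ortho.finite_irrCharacter (G := Nn P)
  letI := Fintype.ofFinite (IrrCharacter (Nn P))
  have hle : P ≤ Nn P := Subgroup.le_normalizer
  have hle' : ∀ u : G, u ∈ P → u ∈ Nn P := fun u hu => hle hu
  let P' : Subgroup (Nn P) := P.subgroupOf (Nn P)
  have hP'n : P'.Normal := Subgroup.normal_in_normalizer
  letI : Fintype P' := Fintype.ofFinite _
  let ee : P' ≃ P := (Subgroup.subgroupOfEquivOfLe hle).toEquiv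
  have hee : ∀ w : P', ((ee w : P) : G) = ((w : Nn P) : G) := fun w => rfl
  have hcardP' : Nat.card P' = p := by
    rw [Nat.card_congr ee, hP]
  have hp0 : (p : ℂ) ≠ 0 := by
    exact_mod_cast hp.out.ne_zero
  -- the functional
  let B : (Nn P → ℂ) → ℂ := fun f => classInner (fun w : P' => f w) (fun _ => (1 : ℂ))
  have hB : ∀ f : Nn P → ℂ, B f = (p : ℂ)⁻¹ * ∑ u : P, f ⟨u, hle u.2⟩ := by
    intro f
    show classInner (fun w : P' => f w) (fun _ => (1 : ℂ)) = _
    rw [classInner_subgroup_eq, hcardP']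
    congr 1
    refine Fintype.sum_equiv ee _ _ (fun w => ?_)
    simp only [map_one, mul_one]
    rfl
  set μ' : Nn P → ℂ := fun n => μ n with hμ'def
  have hμ' : IsCharacter (Nn P) μ' := isCharacter_restrict (Nn P) hμ
  have hBμ : B μ' = a := by
    rw [hB]
    have h1 := congrArg conj ha
    simp only [map_mul, map_inv₀, map_natCast, map_sum, Complex.conj_conj] at h1
    exact h1
  obtain ⟨m, hm⟩ := exists_nat_combination hμ'
  have hsum : B μ' = ∑ i : IrrCharacter (Nn P), (m i : ℂ) * B (i : Nn P → ℂ) := by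
    rw [hB]
    simp only [hB]
    have h1 : ∀ u : P, μ' ⟨u, hle u.2⟩ = ∑ i : IrrCharacter (Nn P), (m i : ℂ) * (i : Nn P → ℂ) ⟨u, hle u.2⟩ := by
      intro u
      rw [hm, Finset.sum_apply]
      refine Finset.sum_congr rfl fun i _ => ?_
      rw [Pi.smul_apply, nsmul_eq_mul]
    simp only [h1]
    rw [Finset.sum_comm, Finset.mul_sum]
    refine Finset.sum_congr rfl fun i _ => ?_
    rw [← Finset.mul_sum]
    ring
  obtain ⟨ξ, hmξ, hBξ⟩ : ∃ i : IrrCharacter (Nn P), m i ≠ 0 ∧ B (i : Nn P → ℂ) ≠ 0 := by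
    by_contra hcon
    push Not at hcon
    have h1 : B μ' = 0 := by
      rw [hsum]
      refine Finset.sum_eq_zero fun i _ => ?_
      by_cases hi : m i = 0
      · rw [hi]
        simp
      · rw [hcon i hi, mul_zero]
    rw [hBμ] at h1
    exact ha0 (by exact_mod_cast h1)
  have htriv := Cfsg.Agent.Lib.BlockT.Inflate.trivial_of_constituent_one hP'n ξ.2 hBξ
  have hξc := isCharacter_of_isIrrCharacter ξ.2
  have hinner : classInner μ' (ξ : Nn P → ℂ) = (m ξ : ℂ) := by
    rw [hm]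
    exact classInner_of_nat_combination m ξ
  have hinner0 : classInner μ' (ξ : Nn P → ℂ) ≠ 0 := by
    rw [hinner]
    exact_mod_cast hmξ
  refine ⟨ξ, ξ.2, ?_, ?_, charDegree_pos ξ.2, ?_⟩
  · intro n u hu
    have hmem : (⟨u, hle hu⟩ : Nn P) ∈ P' := hu
    have h1 := htriv ⟨_, hmem⟩
    obtain ⟨k, ρ, hρ⟩ := hξc
    have h2 : ρ ⟨u, hle hu⟩ = 1 := by
      rw [← character_eq_one_iff, hρ]
      exact h1
    have e1 : (⟨u, Subgroup.centralizer_le_normalizer _ (le_centralizer hP hu)⟩ : Nn P) = ⟨u, hle hu⟩ := rfl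
    rw [e1, ← hρ]
    simp only [Representation.character, map_mul, h2, mul_one]
  · rw [classInner_indFun_left _ _ _ (isClassFunction_of_isCharacter hμ)]
    intro h0
    apply hinner0
    rw [← classInner_conj]
    have h1 : classInner (ξ : Nn P → ℂ) μ' = 0 := h0
    rw [h1]
    simp
  · -- the degree
    have hsub := isCharacter_sub_of_classInner_ne_zero hμ' ξ.2 hinner0
    obtain ⟨k, hk⟩ := exists_nat_classInner (isCharacter_restrict P' hsub)
      (Cfsg.Agent.Lib.Char.Basic.isCharacter_one (G := P'))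
    have hBsub : B (μ' - (ξ : Nn P → ℂ)) = k := hk
    have hBξval : B (ξ : Nn P → ℂ) = (charDegree (ξ : Nn P → ℂ) : ℂ) := by
      show classInner (fun w : P' => (ξ : Nn P → ℂ) w) (fun _ => (1 : ℂ)) = _
      rw [classInner_subgroup_eq, hcardP']
      have h1 : ∀ w : P', (ξ : Nn P → ℂ) w * conj (1 : ℂ) = (ξ : Nn P → ℂ) 1 := by
        intro w
        rw [htriv w]
        simp
      simp only [h1, Finset.sum_const, Finset.card_univ, nsmul_eq_mul]
      rw [← Nat.card_eq_fintype_card, hcardP', charDegree_natCast hξc]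
      field_simp
    have hadd : B μ' = B (ξ : Nn P → ℂ) + B (μ' - (ξ : Nn P → ℂ)) := by
      rw [hB, hB, hB, ← mul_add, ← Finset.sum_add_distrib]
      congr 1
      refine Finset.sum_congr rfl fun u _ => ?_
      simp
    rw [hBμ, hBξval, hBsub] at hadd
    have h3 : a = charDegree (ξ : Nn P → ℂ) + k := by exact_mod_cast hadd
    omega

end Cfsg.Agent.Lib.BrauerOrder.Main
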